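import Cfsg.Agent.H603.CC.Basic
import Mathlib.GroupTheory.GroupAction.Quotient

/-!
# S4793: the tasks WSUM and ORB (helper688)
-/

set_option autoImplicit false

open Cfsg

namespace Cfsg.Agent.H688.CC

open Module Cfsg.Agent.H603.CC

universe u v w

section

variable {F : Type u} {V : Type v} [Field F] [AddCommGroup V] [Module F V] {q : ℕ} {σ : F →+* F}
  {B : V →ₛₗ[σ] V →ₗ[F] F} [Finite F] [Finite V]

/-! ### WSUM -/

omit [Finite F] [Finite V] in
theorem Ref_le_FixS (h : HS q σ B) [Finite F] {W : Submodule F V} {f : V} (hf : f ∈ perp B W) :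
    Ref B f ≤ FixS B W := by
  intro ρ hρ w hw
  refine hρ w fun x hx => ?_
  obtain ⟨c, rfl⟩ := Submodule.mem_span_singleton.1 hx
  rw [LinearMap.map_smulₛₗ₂, h.zero_symm (hf w hw), smul_zero]

theorem sum_FixS (h : HS q σ B) {Δ : UU B → ℂ} (hs : Star Δ)
    (h0 : ∀ E, IsTS B E → ∀ g ∈ FixS B (perp B E), Δ g = 0) (W : Submodule F V) :
    ∑ᶠ g : FixS B W, Δ (g : UU B) = 0 := by
  classical
  let _ := Fintype.ofFinite (UU B)
  by_cases hW : IsTS B (perp B W)
  · refine finsum_eq_zero_of_forall_eq_zero fun g => ?_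
    refine h0 _ hW g ?_
    rw [perp_perp h]
    exact g.2
  · obtain ⟨f, hf, hff⟩ := exists_unit h hW
    have hle := Ref_le_FixS h hf
    let _ := Fintype.ofFinite (FixS B W)
    let _ := Fintype.ofFinite (Ref B f)
    rw [finsum_eq_sum_of_fintype]
    have h1 : ∀ ρ : Ref B f, ∑ g : FixS B W, Δ ((ρ : UU B) * g) = ∑ g : FixS B W, Δ (g : UU B) := by
      intro ρ
      exact Equiv.sum_comp (Equiv.mulLeft (⟨ρ, hle ρ.2⟩ : FixS B W)) (fun g : FixS B W => Δ (g : UU B))
    have h2 : ∑ ρ : Ref B f, ∑ g : FixS B W, Δ ((ρ : UU B) * g) = 0 := by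
      rw [Finset.sum_comm]
      refine Finset.sum_eq_zero fun g _ => ?_
      rw [← finsum_eq_sum_of_fintype]
      exact hs f hff g
    rw [Finset.sum_congr rfl fun ρ _ => h1 ρ, Finset.sum_const, Finset.card_univ, nsmul_eq_mul] at h2
    refine (mul_eq_zero.1 h2).resolve_left ?_
    exact Nat.cast_ne_zero.2 Fintype.card_ne_zero

theorem wsum (h : HS q σ B) {Δ : UU B → ℂ} (hs : Star Δ)
    (h0 : ∀ E, IsTS B E → ∀ g ∈ FixS B (perp B E), Δ g = 0) (Θ : Submodule F V → ℂ) :
    ∑ᶠ g : UU B, Δ g * Θ (fx g) = 0 := by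
  classical
  let _ := Fintype.ofFinite (UU B)
  have : Finite (Submodule F V) := Finite.of_injective (fun W : Submodule F V => (W : Set V)) SetLike.coe_injective
  let _ := Fintype.ofFinite (Submodule F V)
  have hS : ∀ W : Submodule F V, ∑ W' : Submodule F V, (if W ≤ W' then ∑ g : UU B, (if fx g = W' then Δ g else 0) else 0) = 0 := by
    intro W
    have h1 := sum_FixS h hs h0 W
    let _ := Fintype.ofFinite (FixS B W)
    rw [finsum_eq_sum_of_fintype] at h1
    have h2 : ∑ g : FixS B W, Δ (g : UU B) = ∑ g : UU B, if g ∈ FixS B W then Δ g else 0 := by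
      rw [← Finset.sum_filter]
      refine (Finset.sum_subtype (Finset.univ.filter fun g : UU B => g ∈ FixS B W) (fun g => ?_) Δ).symm
      simp
    rw [h2] at h1
    refine Eq.trans ?_ h1
    have h3 : ∀ g : UU B, (if g ∈ FixS B W then Δ g else 0) =
        ∑ W' : Submodule F V, if W ≤ W' then (if fx g = W' then Δ g else 0) else 0 := by
      intro g
      have e1 : ∀ W' : Submodule F V, (if W ≤ W' then (if fx g = W' then Δ g else 0) else 0) =
          if fx g = W' then (if W ≤ fx g then Δ g else 0) else 0 := by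
        intro W'
        by_cases e : fx g = W'
        · subst e
          simp
        · simp [e]
      rw [Finset.sum_congr rfl fun W' _ => e1 W', Finset.sum_ite_eq Finset.univ (fx g), if_pos (Finset.mem_univ _)]
      rfl
    rw [Finset.sum_congr rfl fun g _ => h3 g, Finset.sum_comm]
    refine Finset.sum_congr rfl fun W' _ => ?_
    split_ifs
    · rfl
    · rw [Finset.sum_const_zero]
  have hT : ∀ W : Submodule F V, ∑ g : UU B, (if fx g = W then Δ g else 0) = 0 := by
    intro W
    induction W using WellFoundedGT.induction with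
    | ind W ih =>
      have h1 := hS W
      rw [Finset.sum_eq_single W] at h1
      · rwa [if_pos le_rfl] at h1
      · intro W' _ hne
        split_ifs with hle
        · exact ih W' (lt_of_le_of_ne hle (Ne.symm hne))
        · rfl
      · intro h2
        exact absurd (Finset.mem_univ _) h2
  rw [finsum_eq_sum_of_fintype]
  have h4 : ∀ g : UU B, Δ g * Θ (fx g) = ∑ W : Submodule F V, Θ W * (if fx g = W then Δ g else 0) := by
    intro g
    rw [Finset.sum_eq_single (fx g)]
    · rw [if_pos rfl, mul_comm]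
    · intro W _ hne
      rw [if_neg (Ne.symm hne), mul_zero]
    · intro h2
      exact absurd (Finset.mem_univ _) h2
  rw [Finset.sum_congr rfl fun g _ => h4 g, Finset.sum_comm]
  refine Finset.sum_eq_zero fun W _ => ?_
  rw [← Finset.mul_sum, hT, mul_zero]

/-! ### ORB -/

omit [Finite F] in
theorem wf_sq (h : HS q σ B) (g : UU B) : (wf q g) ^ 2 = (Nat.card (fx g) : ℂ) := by
  unfold wf
  rw [← pow_mul, mul_comm, pow_mul, neg_sq]
  have h1 : Nat.card (fx g) = (q ^ 2) ^ finrank F (fx g) := by
    rw [← h.card, ← Module.natCard_eq_pow_finrank]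
  rw [h1]
  push_cast
  rfl

omit [Finite V] in
/-- the number of elements of the fixed field -/
theorem card_fixed (h : HS q σ B) : Nat.card {c : F // σ c = c} = q := by
  classical
  have hq := h.two_le
  let _ := Fintype.ofFinite F
  have hcard : Nat.card Fˣ = q ^ 2 - 1 := by rw [Nat.card_units, h.card]
  have h1 : Nat.card (powMonoidHom (q - 1) : Fˣ →* Fˣ).ker = q - 1 := by
    rw [IsCyclic.card_powMonoidHom_ker, hcard]
    refine Nat.gcd_eq_right ?_
    refine ⟨q + 1, ?_⟩
    obtain ⟨t, rfl⟩ : ∃ t, q = t + 1 := ⟨q - 1, by omega⟩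
    rw [Nat.add_sub_cancel]
    have : (t + 1) ^ 2 = t * (t + 1 + 1) + 1 := by ring
    omega
  have h2 : Nat.card {c : F // σ c = c} = Nat.card (Option (powMonoidHom (q - 1) : Fˣ →* Fˣ).ker) := by
    refine Nat.card_congr ?_
    refine Equiv.ofBijective (fun c => if hc : (c : F) = 0 then none else some ⟨Units.mk0 c hc, ?_⟩) ⟨?_, ?_⟩
    · rw [MonoidHom.mem_ker, powMonoidHom_apply]
      ext
      rw [Units.val_pow_eq_pow_val, Units.val_mk0, Units.val_one]
      have e1 := c.2
      rw [h.sig] at e1
      apply mul_left_cancel₀ hc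
      rw [← pow_succ', Nat.sub_add_cancel (by omega), e1, mul_one]
    · intro c d hcd
      by_cases hc : (c : F) = 0
      · by_cases hd : (d : F) = 0
        · exact Subtype.ext (by rw [hc, hd])
        · simp [hc, hd] at hcd
      · by_cases hd : (d : F) = 0
        · simp [hc, hd] at hcd
        · simp only [hc, hd, dite_false, Option.some.injEq, Subtype.mk.injEq] at hcd
          exact Subtype.ext (by simpa using congrArg Units.val hcd)
    · intro y
      rcases y with _ | ⟨u, hu⟩
      · exact ⟨⟨0, map_zero σ⟩, by simp⟩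
      · rw [MonoidHom.mem_ker, powMonoidHom_apply] at hu
        refine ⟨⟨u, ?_⟩, ?_⟩
        · rw [h.sig]
          have e1 : (u : F) ^ (q - 1) = 1 := by rw [← Units.val_pow_eq_pow_val, hu, Units.val_one]
          calc (u : F) ^ q = (u : F) ^ (q - 1 + 1) := by rw [Nat.sub_add_cancel (by omega)]
            _ = u := by rw [pow_succ, e1, one_mul]
        · simp
  have := Finite.of_injective (fun x : (powMonoidHom (q - 1) : Fˣ →* Fˣ).ker => (x : Fˣ)) Subtype.val_injective
  rw [h2, Finite.card_option, h1, Nat.sub_add_cancel (by omega)]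

/-- every norm is attained -/
theorem exists_vec (h : HS q σ B) (hn : 2 ≤ finrank F V) (c : F) (hc : σ c = c) : ∃ x : V, x ≠ 0 ∧ B x x = c := by
  by_cases hc0 : c = 0
  · obtain ⟨t, -, e, he, hee, -⟩ := exists_isTv h hn
    exact ⟨e, he, by rw [hee, hc0]⟩
  · have hT : ¬ IsTS B (⊤ : Submodule F V) := by
      intro hT
      have : Nontrivial V := Module.nontrivial_of_finrank_pos (R := F) (by omega)
      obtain ⟨x, hx⟩ := exists_ne (0 : V)
      exact hx (h.ext fun y => hT x trivial y trivial)
    obtain ⟨f, -, hf⟩ := exists_unit h hT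
    obtain ⟨a, ha, hac⟩ := Cfsg.Agent.ClassicalGeometry.HermWitt.norm_surj σ h.ne_id h.inv c hc hc0
    refine ⟨a • f, ?_, ?_⟩
    · intro h1
      have h2 : f = 0 := (smul_eq_zero.1 h1).resolve_left ha
      rw [h2, map_zero] at hf
      exact zero_ne_one hf
    · rw [LinearMap.map_smulₛₗ₂, map_smul, smul_eq_mul, smul_eq_mul, hf, mul_one, mul_comm, hac]

/-- the number of orbits on vectors -/
theorem card_orbits (h : HS q σ B) (hn : 2 ≤ finrank F V) :
    Nat.card (MulAction.orbitRel.Quotient (UU B) V) = q + 1 := by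
  classical
  have hN : ∀ x : V, σ (B x x) = B x x := fun x => h.sy x x
  let φ : V → Option {c : F // σ c = c} := fun x => if x = 0 then none else some ⟨B x x, hN x⟩
  have hφ : ∀ x y : V, φ x = φ y ↔ ∃ g : UU B, g • y = x := by
    intro x y
    constructor
    · intro hxy
      by_cases hx : x = 0
      · by_cases hy : y = 0
        · exact ⟨1, by rw [one_smul, hx, hy]⟩
        · simp [φ, hx, hy] at hxy
      · by_cases hy : y = 0
        · simp [φ, hx, hy] at hxy
        · have h1 : B x x = B y y := by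
            simpa [φ, hx, hy] using hxy
          obtain ⟨g, hg⟩ := exists_conj_vec h hy hx h1.symm
          exact ⟨g, hg⟩
    · rintro ⟨g, rfl⟩
      by_cases hy : y = 0
      · rw [hy, smul_zero]
      · have h1 : g • y ≠ 0 := by
          intro h2
          apply hy
          have h3 : g⁻¹ • g • y = g⁻¹ • (0 : V) := by rw [h2]
          rwa [inv_smul_smul, smul_zero] at h3
        simp only [φ, hy, h1, if_false, Option.some.injEq, Subtype.mk.injEq]
        exact form_ac g y y
  have hsurj : Function.Surjective φ := by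
    intro c
    rcases c with _ | ⟨c, hc⟩
    · exact ⟨0, by simp [φ]⟩
    · obtain ⟨x, hx, hxc⟩ := exists_vec h hn c hc
      exact ⟨x, by simp [φ, hx, hxc]⟩
  have h2 : Nat.card (MulAction.orbitRel.Quotient (UU B) V) = Nat.card (Option {c : F // σ c = c}) := by
    refine Nat.card_congr (Equiv.ofBijective (Quotient.lift φ ?_) ⟨?_, ?_⟩)
    · intro x y hxy
      exact (hφ x y).2 (MulAction.mem_orbit_iff.1 (MulAction.orbitRel_apply.1 hxy))
    · intro a b
      refine Quotient.inductionOn₂ a b fun x y hxy => Quotient.sound ?_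
      exact MulAction.orbitRel_apply.2 (MulAction.mem_orbit_iff.2 ((hφ x y).1 hxy))
    · intro c
      obtain ⟨x, hx⟩ := hsurj c
      exact ⟨Quotient.mk _ x, hx⟩
  rw [h2, Finite.card_option, card_fixed h]

theorem sum_sq (h : HS q σ B) (hn : 2 ≤ finrank F V) :
    ∑ᶠ g : UU B, (wf q g) ^ 2 = (q + 1) * Nat.card (UU B) := by
  classical
  let _ := Fintype.ofFinite (UU B)
  let _ := Fintype.ofFinite V
  let _ := Fintype.ofFinite (MulAction.orbitRel.Quotient (UU B) V)
  rw [finsum_eq_sum_of_fintype]
  have h1 := MulAction.sum_card_fixedBy_eq_card_orbits_mul_card_group (UU B) V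
  have h2 : ∀ g : UU B, (wf q g) ^ 2 = (Fintype.card (MulAction.fixedBy V g) : ℂ) := by
    intro g
    rw [wf_sq h, ← Nat.card_eq_fintype_card]
    rfl
  rw [Finset.sum_congr rfl fun g _ => h2 g, ← Nat.cast_sum, h1, Nat.cast_mul, ← Nat.card_eq_fintype_card,
    ← Nat.card_eq_fintype_card, card_orbits h hn, Nat.cast_add, Nat.cast_one]

/-- the stabilizer of a vector contains reflections -/
theorem exists_ref_fix (h : HS q σ B) (hn : 3 ≤ finrank F V) (x : V) :
    ∃ f : V, B f f = 1 ∧ B f x = 0 := by
  have hW : ¬ IsTS B (perp B (Submodule.span F {x})) := by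
    intro hW
    have h1 : perp B (Submodule.span F {x}) ≤ Submodule.span F {x} := by
      rw [← perp_perp h (Submodule.span F {x})]
      nth_rw 1 [perp_perp h (Submodule.span F {x})]
      intro v hv w hw
      exact hW w hw v hv
    have h2 := Submodule.finrank_mono h1
    have h3 := finrank_perp h (Submodule.span F {x})
    have h4 : finrank F (Submodule.span F {x}) ≤ 1 := by
      have := finrank_span_le_card (R := F) ({x} : Set V)
      simpa using this
    omega
  obtain ⟨f, hf, hff⟩ := exists_unit h hW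
  exact ⟨f, hff, h.zero_symm (hf x (Submodule.mem_span_singleton_self x))⟩

theorem sum_sq_dl (h : HS q σ B) (hn : 3 ≤ finrank F V) {κ : Fˣ →* ℂˣ} (hκ : KNT q κ) :
    ∑ᶠ g : UU B, (wf q g) ^ 2 * dl κ g = 0 := by
  classical
  let _ := Fintype.ofFinite (UU B)
  let _ := Fintype.ofFinite V
  rw [finsum_eq_sum_of_fintype]
  have h1 : ∀ g : UU B, (wf q g) ^ 2 * dl κ g = ∑ x : V, if ac B g x = x then dl κ g else 0 := by
    intro g
    rw [wf_sq h, ← Finset.sum_filter, Finset.sum_const, nsmul_eq_mul]
    congr 2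
    rw [Nat.card_eq_fintype_card, Fintype.card_subtype]
    congr 1
  rw [Finset.sum_congr rfl fun g _ => h1 g, Finset.sum_comm]
  refine Finset.sum_eq_zero fun x _ => ?_
  obtain ⟨f, hff, hfx⟩ := exists_ref_fix h hn x
  obtain ⟨a, ha, hκa⟩ := hκ
  have ha' : (a : F) ^ (q + 1) = 1 := by rw [← Units.val_pow_eq_pow_val, ha, Units.val_one]
  obtain ⟨ρ, hρ, hρx⟩ := exists_rf h hff ha'
  obtain ⟨c, -, hc, hdt⟩ := of_mem_Ref h hff hρ
  have hf0 : f ≠ 0 := by
    rintro rfl
    rw [map_zero] at hff
    exact zero_ne_one hff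
  have hca : c = a := by
    have e1 := hρx f
    rw [hc f, hff, mul_one, mul_one] at e1
    have e2 := add_left_cancel e1
    have e3 : (c - 1 - ((a : F) - 1)) • f = 0 := by rw [sub_smul, e2, sub_self]
    have e4 := (smul_eq_zero.1 e3).resolve_right hf0
    linear_combination e4
  have hdl : ∀ g : UU B, dl κ (ρ * g) = κ a * dl κ g := by
    intro g
    have e1 : dt ρ = a := Units.ext (by rw [hdt, hca])
    unfold dl
    rw [map_mul, map_mul, Units.val_mul, e1]
  have hfix : ∀ g : UU B, ac B (ρ * g) x = x ↔ ac B g x = x := by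
    intro g
    have hρ1 : ac B ρ x = x := by rw [hρx, hfx, mul_zero, zero_smul, add_zero]
    constructor
    · intro e
      have e2 : ac B ρ⁻¹ (ac B (ρ * g) x) = ac B ρ⁻¹ x := by rw [e]
      rw [ac_mul, ac_inv_ac] at e2
      rw [e2]
      have e3 : ac B ρ⁻¹ (ac B ρ x) = x := ac_inv_ac ρ x
      rwa [hρ1] at e3
    · intro e
      rw [ac_mul, e, hρ1]
  have h2 : ∑ g : UU B, (if ac B g x = x then dl κ g else 0) = (κ a : ℂ) * ∑ g : UU B, (if ac B g x = x then dl κ g else 0) := by
    conv_lhs => rw [← Equiv.sum_comp (Equiv.mulLeft ρ) (fun g : UU B => if ac B g x = x then dl κ g else 0)]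
    rw [Finset.mul_sum]
    refine Finset.sum_congr rfl fun g _ => ?_
    simp only [Equiv.coe_mulLeft, hfix, hdl, mul_ite, mul_zero]
  have h3 : (1 - (κ a : ℂ)) * ∑ g : UU B, (if ac B g x = x then dl κ g else 0) = 0 := by
    rw [sub_mul, one_mul, ← h2, sub_self]
  refine (mul_eq_zero.1 h3).resolve_left fun h4 => hκa ?_
  ext
  rw [Units.val_one]
  linear_combination -h4

end

end Cfsg.Agent.H688.CC
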